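import Groth.Agent.QCoh.DevissageP
import Groth.Agent.QCoh.AnnIdeal
import Groth.Agent.KZ.ClosedDev
import Groth.Agent.KZ.OpenExt
import Groth.Agent.H23.RedSub

/-! Serre classes of coherent modules and supports. -/

set_option autoImplicit false
set_option backward.isDefEq.respectTransparency false
set_option backward.isDefEq.respectTransparency.types false

universe u

open CategoryTheory CategoryTheory.Limits AlgebraicGeometry TopologicalSpace Opposite

namespace Groth.Agent.CohGabLib

open Groth.Agent Groth.Agent.QCoh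

variable {X : Scheme.{u}}

/-- A Serre class on coherent modules. -/
def SerreCoh (P : ObjectProperty X.Modules) : Prop :=
  ∀ S : ShortComplex X.Modules, S.ShortExact → Coh.IsCoh S.X₁ → Coh.IsCoh S.X₂ →
    Coh.IsCoh S.X₃ → (P S.X₂ ↔ P S.X₁ ∧ P S.X₃)

lemma support_structure (Z : Scheme.{u}) : CohB1.support (Coh.structureModule Z) = Set.univ := by
  refine Set.eq_univ_of_forall fun x => ?_
  obtain ⟨U, hU, hxU⟩ := exists_affine_mem x
  refine (mem_support_iff isQCoh_structureModule hU hxU).2 ⟨(1 : Γ(Z, U)), fun f hf h0 => ?_⟩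
  have : f = 0 := (mul_one f).symm.trans h0
  rw [this, Scheme.basicOpen_zero] at hf
  exact hf

lemma support_push_eq {Z : Scheme.{u}} (i : Z ⟶ X) [IsClosedImmersion i] {N : Z.Modules}
    (hq : Coh.IsCoh ((Coh.push i).obj N)) (hN : Coh.IsQCoh N) :
    CohB1.support ((Coh.push i).obj N) = i '' CohB1.support N := by
  have := KZ.ClosedDev.isIso_counit i (M := N) hq.1
  have h : CohB1.support N = i.base ⁻¹' CohB1.support ((Coh.push i).obj N) := by
    rw [← support_pullback i hq.1 hq.2]
    exact (support_iso (asIso ((Scheme.Modules.pullbackPushforwardAdjunction i).counit.app N))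
      (isQCoh_pullback i hq.1)).symm
  rw [h]
  exact ((Set.image_preimage_eq_inter_range).trans (Set.inter_eq_left.2 (support_push_subset i hN))).symm

lemma support_push_structure [IsNoetherian X] {Z : Scheme.{u}} (i : Z ⟶ X) [IsClosedImmersion i] :
    CohB1.support ((Coh.push i).obj (Coh.structureModule Z)) = Set.range i := by
  rw [support_push_eq i (isCoh_push_structure i) isQCoh_structureModule, support_structure, Set.image_univ]

/-- A coherent module with given closed support. -/
lemma exists_coh_support [IsNoetherian X] (C : Closeds X) :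
    ∃ F : X.Modules, Coh.IsCoh F ∧ CohB1.support F = (C : Set X) :=
  ⟨_, isCoh_push_structure (Scheme.IdealSheafData.vanishingIdeal C).subschemeι,
    (support_push_structure _).trans (H23.RedSub.range_vanishingIdeal _)⟩

lemma epi_unit [IsNoetherian X] {Z : Scheme.{u}} (i : Z ⟶ X) [IsClosedImmersion i] {F : X.Modules}
    (hF : Coh.IsCoh F) : Epi ((Scheme.Modules.pullbackPushforwardAdjunction i).unit.app F) := by
  have := LocallyOfFiniteType.isLocallyNoetherian i
  set η := (Scheme.Modules.pullbackPushforwardAdjunction i).unit.app F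
  have hT : Coh.IsCoh ((Scheme.Modules.pushforward i).obj ((Scheme.Modules.pullback i).obj F)) :=
    QCoh.isCoh_push i (KZ.ClosedDev.isCoh_pull i hF)
  refine Preadditive.epi_of_cokernel_zero ((isZero_of_app_eq_zero (isQCoh_cokernel hF.1 hT.1 η) fun U x => ?_).eq_of_tgt _ _)
  obtain ⟨y, rfl⟩ := app_surjective_of_epi hT.1 (isQCoh_cokernel hF.1 hT.1 η) (cokernel.π η) U.2 x
  obtain ⟨z, hz⟩ := (unit_app_closed i hF.1 U.2).1 y
  rw [← hz]
  exact congr(($(cokernel.condition η)).app U.1 z)

variable {P : ObjectProperty X.Modules}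

lemma SerreCoh.prop_of_isZero [IsNoetherian X] (hP : SerreCoh P) {F Z : X.Modules} (hF : Coh.IsCoh F)
    (hPF : P F) (hZ : IsZero Z) : P Z := by
  have hZc : Coh.IsCoh Z :=
    KZ.isClosedUnderIsomorphisms_isCoh.of_iso (IsZero.iso (isZero_zero _) hZ) KZ.isCoh_zero
  exact ((hP (ShortComplex.mk (0 : Z ⟶ F) (𝟙 F) zero_comp)
    (.mk' ((ShortComplex.exact_iff_mono _ rfl).2 (inferInstanceAs (Mono (𝟙 F))))
      ⟨fun _ _ _ => hZ.eq_of_tgt _ _⟩ (inferInstanceAs (Epi (𝟙 F)))) hZc hF hF).1 hPF).1

lemma SerreCoh.prop_iso [IsNoetherian X] (hP : SerreCoh P) {M N : X.Modules} (hM : Coh.IsCoh M) (e : M ≅ N)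
    (hPM : P M) : P N := by
  have hNc : Coh.IsCoh N := KZ.isClosedUnderIsomorphisms_isCoh.of_iso e hM
  have hZ := isZero_kernel_of_mono e.hom
  have hZc : Coh.IsCoh (kernel e.hom) := isCoh_kernel hM hNc e.hom
  exact ((hP (ShortComplex.mk (kernel.ι e.hom) e.hom (kernel.condition _))
    (.mk' (ShortComplex.exact_of_f_is_kernel _ (kernelIsKernel _)) inferInstance inferInstance)
    hZc hM hNc).1 hPM).2

lemma shortExact_cokernel {M N : X.Modules} (φ : M ⟶ N) [Mono φ] :
    (ShortComplex.mk φ (cokernel.π φ) (cokernel.condition φ)).ShortExact :=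
  .mk' (ShortComplex.exact_of_g_is_cokernel _ (cokernelIsCokernel φ)) ‹_› inferInstance

/-- A module supported exactly on an irreducible closed set generates its structure sheaf. -/
lemma SerreCoh.push_structure [IsNoetherian X] (hP : SerreCoh P) {ξ : X}
    (hsmall : ∀ M : X.Modules, Coh.IsCoh M → CohB1.support M ⊆ closure {ξ} → ξ ∉ CohB1.support M → P M)
    {Z : Scheme.{u}} (i : Z ⟶ X) [IsClosedImmersion i] [IsIntegral Z] (hr : Set.range i = closure {ξ})
    {G : X.Modules} (hG : Coh.IsCoh G) (hGs : CohB1.support G ⊆ closure {ξ}) (hξ : ξ ∈ CohB1.support G)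
    (hPG : P G) : P ((Coh.push i).obj (Coh.structureModule Z)) := by
  induction filt_of_isCoh hG with
  | @zero N h => exact absurd hξ (by rw [support_eq_empty_of_isZero h hG.1]; exact fun h => h)
  | @step N M' φ _ _ hNc hMc hex ih =>
    obtain ⟨Z', i', hi', hZ', I, ι, hι, hI, hI0, ⟨e⟩⟩ := hex
    have := hi'; have := hZ'; have := hι
    have hc := isCoh_cokernel hNc.1 hMc φ
    have hP' := (hP _ (shortExact_cokernel φ) hNc hMc hc).1 hPG
    by_cases hN : ξ ∈ CohB1.support N
    · exact ih hNc ((mem_support_of_mono hNc.1 hMc.1 φ).trans hGs) hN hP'.1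
    · have hξC : ξ ∈ CohB1.support (cokernel φ) :=
        (support_subset_union (shortExact_cokernel φ) hNc.1 hMc.1 hc.1 hξ).resolve_left hN
      have hCs : CohB1.support (cokernel φ) ⊆ closure {ξ} :=
        (support_of_epi hMc.1 hc.1 (cokernel.π φ)).trans hGs
      have hPI := hP.prop_iso hc e hP'.2
      rw [support_iso e hc.1] at hξC hCs
      have hIc : Coh.IsCoh ((Coh.push i').obj I) := isCoh_of_mono e.inv hc (isQCoh_pushforward i' hI)
      have hr' : Set.range i' = Set.range i := by
        rw [hr, range_eq_closure i', ← support_push_ideal i' ι hI hI0]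
        exact hCs.antisymm ((isClosed_support_of_isFT (isQCoh_pushforward i' hI)
          hIc.2).closure_subset_iff.2 (Set.singleton_subset_iff.2 hξC))
      obtain ⟨eO⟩ := push_structure_iso i i' hr'
      have hξ'' : i' (genericPoint Z') = ξ :=
        (inseparable_iff_closure_eq.2 (by rw [← range_eq_closure i', hr', hr])).eq
      have hO : Coh.IsCoh ((Coh.push i').obj (Coh.structureModule Z')) := isCoh_push_structure i'
      have : Mono ((Coh.push i').map ι) := Functor.map_mono _ ι
      have hQ := isCoh_cokernel hIc.1 hO ((Coh.push i').map ι)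
      refine hP.prop_iso hO eO ((hP _ (shortExact_cokernel ((Coh.push i').map ι)) hIc hO hQ).2
        ⟨hPI, hsmall _ hQ ?_ (hξ'' ▸ (mem_support_push_ideal i' ι hI hI0).2)⟩)
      exact (support_of_epi hO.1 hQ.1 (cokernel.π _)).trans
        ((hr'.trans hr) ▸ support_push_subset i' isQCoh_structureModule)

/-- A coherent module generates every coherent module supported in its support. -/
theorem SerreCoh.of_support_subset [IsNoetherian X] (hP : SerreCoh P) {F E : X.Modules} (hF : Coh.IsCoh F)
    (hE : Coh.IsCoh E) (hPF : P F) (h : CohB1.support E ⊆ CohB1.support F) : P E := by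
  refine devissage (fun M => Coh.IsCoh M → P M) (fun M N ⟨e⟩ hM hN => ?_) (fun M h0 _ => hP.prop_of_isZero hF hPF h0)
    (CohB1.support F) (fun S hS h₁ h₂ h₃ _ a c _ => (hP S hS h₁ h₂ h₃).2 ⟨a h₁, c h₃⟩)
    (fun ξ hξ hsmall Z i _ _ hr hO => ?_) (fun S hS h₁ h₂ h₃ _ b _ _ => ((hP S hS h₁ h₂ h₃).1 (b h₂)).1) hE h hE
  · have hMc : Coh.IsCoh M := KZ.isClosedUnderIsomorphisms_isCoh.of_iso e.symm hN
    exact hP.prop_iso hMc e (hM hMc)
  · have hepi := epi_unit i hF
    have := LocallyOfFiniteType.isLocallyNoetherian i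
    set η := (Scheme.Modules.pullbackPushforwardAdjunction i).unit.app F
    have hN := KZ.ClosedDev.isCoh_pull i hF
    have hG : Coh.IsCoh ((Scheme.Modules.pushforward i).obj ((Scheme.Modules.pullback i).obj F)) :=
      QCoh.isCoh_push i hN
    have hK := isCoh_kernel hF hG η
    have hPG : P ((Scheme.Modules.pushforward i).obj ((Scheme.Modules.pullback i).obj F)) :=
      ((hP (ShortComplex.mk (kernel.ι η) η (kernel.condition _))
        (.mk' (ShortComplex.exact_of_f_is_kernel _ (kernelIsKernel _)) inferInstance hepi) hK hF hG).1 hPF).2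
    have hs : CohB1.support ((Scheme.Modules.pushforward i).obj ((Scheme.Modules.pullback i).obj F)) =
        closure {ξ} := by
      refine (support_push_eq i hG hN.1).trans ?_
      rw [support_pullback i hF.1 hF.2, Set.image_preimage_eq_inter_range, hr, Set.inter_eq_right]
      exact hξ
    exact hP.push_structure (fun M hM a b => hsmall M hM a b hM) i hr hG hs.le (hs ▸ subset_closure rfl) hPG

/-- Supported modules form a Serre class. -/
lemma serreCoh_supported (C : Set X) : SerreCoh fun M : X.Modules => CohB1.support M ⊆ C := fun S hS h₁ h₂ h₃ => by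
  have := hS.mono_f
  have := hS.epi_g
  exact ⟨fun h => ⟨(mem_support_of_mono h₁.1 h₂.1 S.f).trans h, (support_of_epi h₂.1 h₃.1 S.g).trans h⟩,
    fun h => (support_subset_union hS h₁.1 h₂.1 h₃.1).trans (Set.union_subset h.1 h.2)⟩


end Groth.Agent.CohGabLib
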