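import Mathlib.CategoryTheory.Localization.CalculusOfFractions

/-! A criterion for a functor to be a localization with a right calculus of fractions. -/

set_option autoImplicit false

universe v v' w w'

open CategoryTheory CategoryTheory.MorphismProperty

namespace Groth.Agent.CohGabLib

variable {C : Type w} [Category.{v} C] {D : Type w'} [Category.{v'} D]

/-- A functor is a localization at the maps it inverts when its maps are fractions and its equalities
come from equalities in the source. -/
theorem isLocalization_of_fractions (L : C ⥤ D) (W : MorphismProperty C)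
    (hW : ∀ {A B : C} (f : A ⟶ B), W f ↔ IsIso (L.map f)) (hS : L.EssSurj)
    (hF : ∀ {A B : C} (g : L.obj A ⟶ L.obj B),
      ∃ (A' : C) (t : A' ⟶ A) (h : A' ⟶ B), IsIso (L.map t) ∧ L.map t ≫ g = L.map h)
    (hE : ∀ {A B : C} (f g : A ⟶ B), L.map f = L.map g →
      ∃ (A' : C) (s : A' ⟶ A), IsIso (L.map s) ∧ s ≫ f = s ≫ g) :
    L.IsLocalization W := by
  have inverts : W.IsInvertedBy L := fun _ _ f hf => (hW f).1 hf
  haveI : W.IsMultiplicative :=
    { id_mem := fun X => (hW _).2 (by rw [L.map_id]; infer_instance)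
      comp_mem := fun f g hf hg => (hW _).2 (by
        haveI := (hW f).1 hf
        haveI := (hW g).1 hg
        rw [L.map_comp]; infer_instance) }
  haveI : W.HasRightCalculusOfFractions :=
    { exists_rightFraction := fun X Y φ => by
        haveI := inverts _ φ.hs
        obtain ⟨A', t, h, ht, he⟩ := hF (L.map φ.f ≫ inv (L.map φ.s))
        have he' : L.map (t ≫ φ.f) = L.map (h ≫ φ.s) := by simp [← he]
        obtain ⟨A'', s, hs, e⟩ := hE _ _ he'
        refine ⟨RightFraction.mk (s ≫ t) ((hW _).2 ?_) (s ≫ h), ?_⟩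
        · rw [L.map_comp]; infer_instance
        · simpa [Category.assoc] using e
      ext := fun X Y Y' f₁ f₂ s hs e => by
        haveI := inverts _ hs
        obtain ⟨A', t, ht, e'⟩ := hE f₁ f₂ (by
          rw [← cancel_mono (L.map s), ← L.map_comp, ← L.map_comp, e])
        exact ⟨A', t, (hW _).2 ht, e'⟩ }
  refine ⟨inverts, ?_⟩
  let Φ := Localization.Construction.lift L inverts
  have key : ∀ {a b : C} (f : a ⟶ b), Φ.map (W.Q.map f) = L.map f := fun f => by
    have h := Functor.congr_hom (Localization.Construction.fac L inverts) f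
    exact h.trans ((Category.id_comp _).trans (Category.comp_id _))
  have hmap : ∀ {a b : C} (φ : W.RightFraction a b),
      L.map φ.s ≫ Φ.map (φ.map W.Q (Localization.inverts W.Q W)) = L.map φ.f := fun φ => by
    haveI := Localization.inverts W.Q W _ φ.hs
    rw [← key φ.s, ← key φ.f]
    exact (Φ.map_comp _ _).symm.trans (congrArg Φ.map (φ.map_s_comp_map _ _))
  haveI : Φ.Faithful := ⟨fun {X Y} p q hpq => by
    obtain ⟨a, rfl⟩ : ∃ a, W.Q.obj a = X := (Localization.Construction.objEquiv W).surjective X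
    obtain ⟨b, rfl⟩ : ∃ b, W.Q.obj b = Y := (Localization.Construction.objEquiv W).surjective Y
    -- compare after a common denominator
    obtain ⟨φ, rfl⟩ := Localization.exists_rightFraction W.Q W p
    haveI := Localization.inverts W.Q W _ φ.hs
    rw [← cancel_epi (W.Q.map φ.s), φ.map_s_comp_map]
    obtain ⟨ψ, hψ⟩ := Localization.exists_rightFraction W.Q W (W.Q.map φ.s ≫ q)
    haveI := Localization.inverts W.Q W _ ψ.hs
    rw [hψ, ← cancel_epi (W.Q.map ψ.s), ψ.map_s_comp_map, ← Functor.map_comp,
      MorphismProperty.map_eq_iff_precomp W.Q W]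
    have e : L.map (ψ.s ≫ φ.f) = L.map ψ.f := by
      rw [L.map_comp, ← hmap φ, ← key φ.s]
      erw [← Φ.map_comp]
      refine (congrArg (L.map ψ.s ≫ ·) ?_).trans (hmap ψ)
      rw [← hψ, Φ.map_comp, Φ.map_comp, hpq]
    obtain ⟨Z, s, hs, e'⟩ := hE _ _ e
    exact ⟨Z, s, (hW _).2 hs, e'⟩⟩
  haveI : Φ.Full := ⟨fun {X Y} g => by
    obtain ⟨a, rfl⟩ : ∃ a, W.Q.obj a = X := (Localization.Construction.objEquiv W).surjective X
    obtain ⟨b, rfl⟩ : ∃ b, W.Q.obj b = Y := (Localization.Construction.objEquiv W).surjective Y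
    change L.obj a ⟶ L.obj b at g
    obtain ⟨A', t, h, ht, he⟩ := hF g
    haveI : IsIso (W.Q.map t) := Localization.inverts W.Q W t ((hW t).2 ht)
    refine ⟨inv (W.Q.map t) ≫ W.Q.map h, ?_⟩
    rw [Φ.map_comp, Functor.map_inv, IsIso.inv_comp_eq, key t, key h]
    exact he.symm⟩
  haveI : Φ.EssSurj := ⟨fun d =>
    ⟨W.Q.obj (L.objPreimage d), ⟨L.objObjPreimageIso d⟩⟩⟩
  exact { }

end Groth.Agent.CohGabLib
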